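import Mathlib

/-!
# Commutators of terms of the lower central series

`⁅γ_i, γ_j⁆ ≤ γ_{i+j}` and `[M, γ_j(G)] ≤ [M, G, …, G]` (`j` times), for a normal subgroup `M`.
-/

set_option autoImplicit false

namespace Cfsg.Agent.H449

open Subgroup

variable {G : Type*} [Group G]

/-- Three subgroups lemma modulo a normal subgroup. -/
theorem three_subgroups_le {A B C N : Subgroup G} [hN : N.Normal]
    (h1 : ⁅⁅B, C⁆, A⁆ ≤ N) (h2 : ⁅⁅C, A⁆, B⁆ ≤ N) : ⁅⁅A, B⁆, C⁆ ≤ N := by
  have key : ∀ X : Subgroup G, X ≤ N ↔ X.map (QuotientGroup.mk' N) = ⊥ := by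
    intro X
    rw [Subgroup.map_eq_bot_iff, QuotientGroup.ker_mk']
  rw [key, Subgroup.map_commutator, Subgroup.map_commutator] at h1 h2 ⊢
  exact Subgroup.commutator_commutator_eq_bot_of_rotate h1 h2

/-- The iterated commutator `[M, S, …, S]` (`k` times). -/
def iterComm (M S : Subgroup G) : ℕ → Subgroup G
  | 0 => M
  | k + 1 => ⁅iterComm M S k, S⁆

theorem iterComm_zero (M S : Subgroup G) : iterComm M S 0 = M := rfl

theorem iterComm_succ (M S : Subgroup G) (k : ℕ) :
    iterComm M S (k + 1) = ⁅iterComm M S k, S⁆ := rfl

theorem iterComm_self (S : Subgroup G) (k : ℕ) : iterComm S S k = S.lowerCentralSeries k := by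
  induction k with
  | zero => rfl
  | succ k ih => rw [iterComm_succ, ih, Subgroup.lowerCentralSeries_succ]

theorem iterComm_normal (M S : Subgroup G) [hM : M.Normal] [hS : S.Normal] (k : ℕ) :
    (iterComm M S k).Normal := by
  induction k with
  | zero => exact hM
  | succ k ih => rw [iterComm_succ]; exact Subgroup.commutator_normal _ _

theorem iterComm_succ_le (M S : Subgroup G) [M.Normal] [S.Normal] (k : ℕ) :
    iterComm M S (k + 1) ≤ iterComm M S k := by
  have := iterComm_normal M S k
  exact Subgroup.commutator_le_left _ _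

theorem iterComm_anti (M S : Subgroup G) [M.Normal] [S.Normal] :
    Antitone (iterComm M S) :=
  antitone_nat_of_succ_le fun k => iterComm_succ_le M S k

/-- `[M_a, γ_{j+1}(S)] ≤ M_{a+j+1}`, where `M_a = [M, S, …, S]` (`a` times). -/
theorem commutator_iterComm_le (M S : Subgroup G) [M.Normal] [S.Normal] (j : ℕ) :
    ∀ a : ℕ, ⁅iterComm M S a, S.lowerCentralSeries j⁆ ≤ iterComm M S (a + j + 1) := by
  induction j with
  | zero => intro a; exact le_rfl
  | succ j ih =>
    intro a
    have hn := iterComm_normal M S (a + (j + 1) + 1)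
    rw [Subgroup.lowerCentralSeries_succ, Subgroup.commutator_comm]
    apply three_subgroups_le
    · rw [Subgroup.commutator_comm S, ← iterComm_succ, add_assoc a j 1 |>.symm]
      have := ih (a + 1)
      rw [show a + 1 + j + 1 = a + j + 1 + 1 by ring] at this
      exact this
    · refine (Subgroup.commutator_mono (ih a) le_rfl).trans ?_
      rw [← iterComm_succ, ← add_assoc]

/-- `⁅γ_{i+1}(S), γ_{j+1}(S)⁆ ≤ γ_{i+j+2}(S)`. -/
theorem commutator_lcs_le (S : Subgroup G) [S.Normal] (i j : ℕ) :
    ⁅S.lowerCentralSeries i, S.lowerCentralSeries j⁆ ≤ S.lowerCentralSeries (i + j + 1) := by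
  have := commutator_iterComm_le S S j i
  rwa [iterComm_self, iterComm_self] at this

/-- The derived series lies deep in the lower central series. -/
theorem derivedSeries_le_lcs (k : ℕ) :
    derivedSeries G k ≤ (⊤ : Subgroup G).lowerCentralSeries (2 ^ k - 1) := by
  induction k with
  | zero => exact le_top
  | succ k ih =>
    rw [derivedSeries_succ]
    refine (Subgroup.commutator_mono ih ih).trans ((commutator_lcs_le ⊤ _ _).trans ?_)
    apply Subgroup.lowerCentralSeries_antitone
    have := Nat.one_le_two_pow (n := k)
    rw [pow_succ]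
    omega

/-- In a finite nilpotent group, the successive commutators of a normal subgroup with the whole
group strictly decrease: for a `p`-group, `|M| ≤ p ^ m` implies `[M, G, …, G] = 1` (`m` times). -/
theorem iterComm_eq_bot_of_card [Finite G] {p : ℕ} [Fact p.Prime] (hG : IsPGroup p G)
    (M : Subgroup G) [M.Normal] (m : ℕ) (hM : Nat.card M ≤ p ^ m) :
    iterComm M (⊤ : Subgroup G) m = ⊥ := by
  have hnil : Group.IsNilpotent G := hG.isNilpotent
  have hlt : ∀ K : Subgroup G, K.Normal → K ≠ ⊥ → ⁅K, (⊤ : Subgroup G)⁆ < K := by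
    intro K hK hne
    refine lt_of_le_of_ne (Subgroup.commutator_le_left _ _) ?_
    intro heq
    apply hne
    have h1 : ∀ k, iterComm K (⊤ : Subgroup G) k = K := by
      intro k
      induction k with
      | zero => rfl
      | succ k ih => rw [iterComm_succ, ih, heq]
    obtain ⟨c, hc⟩ := Subgroup.nilpotent_iff_lowerCentralSeries.mp hnil
    have h2 : ∀ k, iterComm K (⊤ : Subgroup G) k ≤ (⊤ : Subgroup G).lowerCentralSeries k := by
      intro k
      induction k with
      | zero => exact le_top
      | succ k ih =>
        rw [iterComm_succ, Subgroup.lowerCentralSeries_succ]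
        exact Subgroup.commutator_mono ih le_rfl
    have h3 := h2 c
    rw [h1, hc] at h3
    exact le_bot_iff.mp h3
  have key : ∀ k : ℕ, iterComm M (⊤ : Subgroup G) k = ⊥ ∨
      Nat.card (iterComm M (⊤ : Subgroup G) k) * p ^ k ≤ Nat.card M := by
    intro k
    induction k with
    | zero => right; simp [iterComm_zero]
    | succ k ih =>
      rcases ih with ih | ih
      · left
        have := iterComm_succ_le M (⊤ : Subgroup G) k
        rw [ih] at this
        exact le_bot_iff.mp this
      · by_cases hb : iterComm M (⊤ : Subgroup G) k = ⊥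
        · left
          have := iterComm_succ_le M (⊤ : Subgroup G) k
          rw [hb] at this
          exact le_bot_iff.mp this
        · right
          have hn := iterComm_normal M (⊤ : Subgroup G) k
          have h1 := hlt _ hn hb
          rw [← iterComm_succ] at h1
          set A := iterComm M (⊤ : Subgroup G) (k + 1)
          set B := iterComm M (⊤ : Subgroup G) k
          have h2 : Nat.card A * A.relIndex B = Nat.card B := by
            have := Subgroup.relIndex_mul_relIndex ⊥ A B bot_le h1.le
            rwa [Subgroup.relIndex_bot_left, Subgroup.relIndex_bot_left] at this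
          have h3 : p ≤ A.relIndex B := by
            have h4 : A.relIndex B ≠ 1 := by
              intro h; exact absurd (Subgroup.relIndex_eq_one.mp h) (not_le_of_gt h1)
            obtain ⟨e, he⟩ := (IsPGroup.iff_card).mp (hG.to_subgroup B)
            have h5 : A.relIndex B ∣ p ^ e := by rw [← he, ← h2]; exact dvd_mul_left _ _
            obtain ⟨f, hf, hf'⟩ := (Nat.dvd_prime_pow (Fact.out : p.Prime)).mp h5
            rw [hf'] at h4 ⊢
            have : f ≠ 0 := by rintro rfl; exact h4 (pow_zero p)
            exact Nat.le_self_pow this p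
          calc Nat.card A * p ^ (k + 1) = (Nat.card A * p) * p ^ k := by ring
            _ ≤ (Nat.card A * A.relIndex B) * p ^ k :=
              Nat.mul_le_mul_right _ (Nat.mul_le_mul_left _ h3)
            _ = Nat.card B * p ^ k := by rw [h2]
            _ ≤ Nat.card M := ih
  rcases key m with h | h
  · exact h
  · have hp : 0 < p ^ m := pow_pos (Fact.out : p.Prime).pos m
    have h1 : Nat.card (iterComm M (⊤ : Subgroup G) m) * p ^ m ≤ 1 * p ^ m := by
      rw [one_mul]; exact h.trans hM
    have h2 := Nat.le_of_mul_le_mul_right h1 hp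
    exact Subgroup.eq_bot_of_card_le _ h2

end Cfsg.Agent.H449
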