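import Cfsg.Agent.H349.T3.ElimDef
import Cfsg.Agent.H261.ExcThreeTw
import Cfsg.Agent.H261.ExcThreeE78
import Cfsg.Agent.H128.TwF4Ab
import Cfsg.Agent.S1059
import Cfsg.Agent.S1062
import Cfsg.Agent.S1063
import Cfsg.Agent.S1067
import Cfsg.Agent.S1068
import Cfsg.Agent.S1074
import Cfsg.Agent.S1163
import Cfsg.Prelude.Def_Classification2

/-!
# The rows S3337, S3368: exceptional groups in characteristic prime to three (helper449)

`t3Exc` : if `E` is of exceptional Lie type and `Cand z k d m` then `E` is `²E₆(2)` or `E` is defined over a field of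
characteristic three (`Exc3`).
`nine` : the centralizer of every element of order three of `²E₆(2)` is divisible by `2 ^ 9`.
-/

set_option autoImplicit false

namespace Cfsg.Agent.H449.T3Exc

open Cfsg.Agent.H349.T3 Cfsg.Lie

/-- The groups of exceptional Lie type in characteristic three. -/
def Exc3 (E : Type*) [Group E] : Prop :=
  (∃ (F : Type) (_ : Field F) (_ : Fintype F), CharP F 3 ∧ Nonempty (E ≃* chevG2.group F)) ∨
  (∃ (F : Type) (_ : Field F) (_ : Fintype F), CharP F 3 ∧ Nonempty (E ≃* chevF4.group F)) ∨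
  (∃ (F : Type) (_ : Field F) (_ : Fintype F), CharP F 3 ∧ Nonempty (E ≃* chevE6.group F)) ∨
  (∃ (F : Type) (_ : Field F) (_ : Fintype F), CharP F 3 ∧ Nonempty (E ≃* chevE7.group F)) ∨
  (∃ (F : Type) (_ : Field F) (_ : Fintype F), CharP F 3 ∧ Nonempty (E ≃* chevE8.group F)) ∨
  (∃ (K : Type) (_ : Field K) (_ : Fintype K) (q : ℕ), CharP K 3 ∧ IsPrimePow q ∧ Fintype.card K = q ^ 2 ∧
    Nonempty (E ≃* twistedE6 K q)) ∨
  (∃ (K : Type) (_ : Field K) (_ : Fintype K) (q : ℕ), CharP K 3 ∧ IsPrimePow q ∧ Fintype.card K = q ^ 3 ∧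
    Nonempty (E ≃* twistedD4 K q)) ∨
  IsoRee E

/-- What is needed here. -/
structure Sm {H : Type*} [Group H] (z : H) (k : ℕ) : Prop where
  kl : 9 ≤ k
  dvd : 3 ^ k ∣ Nat.card H
  ndvd : ¬ 3 ^ (k + 1) ∣ Nat.card H
  oz : z ^ 3 = 1
  c23 : Nat.card (Subgroup.centralizer ({z} : Set H)) ∣ 2 ^ 10 * 3 ^ 11
  ab : ∀ A : Subgroup H, IsPGroup 3 A → (∀ a ∈ A, ∀ b ∈ A, a * b = b * a) → 27 * Nat.card A ≤ 3 ^ k

theorem Sm.nine {H : Type*} [Group H] {z : H} {k : ℕ} (h : Sm z k) : 3 ^ 9 ∣ Nat.card H :=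
  (pow_dvd_pow 3 h.kl).trans h.dvd

/-- transfer of centralizers -/
def centE {H K : Type*} [Group H] [Group K] (e : H ≃* K) (z : H) :
    Subgroup.centralizer ({z} : Set H) ≃ Subgroup.centralizer ({e z} : Set K) where
  toFun x := ⟨e x, by
    rw [Subgroup.mem_centralizer_singleton_iff]
    rw [← map_mul, ← map_mul, Subgroup.mem_centralizer_singleton_iff.1 x.2]⟩
  invFun x := ⟨e.symm x, by
    rw [Subgroup.mem_centralizer_singleton_iff]
    apply e.injective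
    rw [map_mul, map_mul, e.apply_symm_apply, Subgroup.mem_centralizer_singleton_iff.1 x.2]⟩
  left_inv x := Subtype.ext (e.symm_apply_apply _)
  right_inv x := Subtype.ext (e.apply_symm_apply _)

theorem Sm.congr {H K : Type*} [Group H] [Group K] {z : H} {k : ℕ} (h : Sm z k) (e : H ≃* K) : Sm (e z) k where
  kl := h.kl
  dvd := by rw [← Nat.card_congr e.toEquiv]; exact h.dvd
  ndvd := by rw [← Nat.card_congr e.toEquiv]; exact h.ndvd
  oz := by rw [← map_pow, h.oz, map_one]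
  c23 := by rw [← Nat.card_congr (centE e z)]; exact h.c23
  ab A hA hc := by
    have h1 := h.ab (A.comap e.toMonoidHom) (hA.comap_of_injective e.toMonoidHom e.injective) fun a ha b hb =>
      e.injective (by rw [map_mul, map_mul]; exact hc _ ha _ hb)
    have h2 : (A.comap e.toMonoidHom).map e.toMonoidHom = A :=
      Subgroup.map_comap_eq_self_of_surjective e.surjective A
    rw [← h2, ← Nat.card_congr ((A.comap e.toMonoidHom).equivMapOfInjective e.toMonoidHom e.injective).toEquiv]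
    exact h1

theorem Sm.of {E : Type*} [Group E] {z : E} {k d m : ℕ} (h : Cand z k d m) : Sm z k :=
  ⟨h.kl, h.dvd, h.ndvd, by rw [← h.oz, pow_orderOf_eq_one], h.c23, h.ab⟩

/-- Arithmetic. -/
theorem arith {r f N c : ℕ} (hr : r.Prime) (h3 : r ≠ 3) (hf : f ≠ 0) (hN : N ≠ 0) (h : (r ^ f) ^ N ∣ c)
    (hc : c ∣ 2 ^ 10 * 3 ^ 11) : r = 2 ∧ f * N ≤ 10 := by
  have h1 : (r ^ f) ^ N ∣ 2 ^ 10 * 3 ^ 11 := h.trans hc
  rw [← pow_mul] at h1
  have h2 : r ∣ 2 ^ 10 * 3 ^ 11 := (dvd_pow_self r (Nat.mul_ne_zero hf hN)).trans h1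
  have h4 : r = 2 := by
    rcases (hr.dvd_mul).1 h2 with h | h
    · exact (Nat.prime_dvd_prime_iff_eq hr Nat.prime_two).1 (hr.dvd_of_dvd_pow h)
    · exact absurd ((Nat.prime_dvd_prime_iff_eq hr Nat.prime_three).1 (hr.dvd_of_dvd_pow h)) h3
  refine ⟨h4, ?_⟩
  subst h4
  have h5 : 2 ^ (f * N) ∣ 2 ^ 10 := by
    refine Nat.Coprime.dvd_of_dvd_mul_right ?_ h1
    exact Nat.Coprime.pow _ _ (by norm_num)
  exact (Nat.pow_dvd_pow_iff_le_right (by norm_num)).1 h5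

section

variable {F : Type} [Field F] [Fintype F]

theorem char_or (F : Type) [Field F] [Fintype F] : ∃ (r f : ℕ) (_ : Fact r.Prime) (_ : CharP F r), f ≠ 0 ∧
    Fintype.card F = r ^ f := by
  obtain ⟨r, hr⟩ := CharP.exists F
  obtain ⟨n, hp, hn⟩ := FiniteField.card F r
  exact ⟨r, n, ⟨hp⟩, hr, n.2.ne', hn⟩

theorem g2 {z : chevG2.group F} {k : ℕ} (h : Sm z k) : CharP F 3 := by
  obtain ⟨r, f, hr, hch, hf, hF⟩ := char_or F
  by_contra h3
  have hr3 : r ≠ 3 := by rintro rfl; exact h3 hch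
  have h1 := H261.pow_dvd_G2 F hr3 z h.oz
  rw [Nat.card_eq_fintype_card, hF] at h1
  obtain ⟨rfl, h5⟩ := arith (N := 1) hr.out hr3 hf one_ne_zero (by rwa [pow_one]) h.c23
  have h6 := h.nine
  rw [S1059.result hF] at h6
  have h7 : f ≤ 10 := by omega
  clear h1 h5 hF
  interval_cases f
  · exact hf rfl
  all_goals norm_num at h6

theorem f4 {z : chevF4.group F} {k : ℕ} (h : Sm z k) : CharP F 3 := by
  obtain ⟨r, f, hr, hch, hf, hF⟩ := char_or F
  by_contra h3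
  have hr3 : r ≠ 3 := by rintro rfl; exact h3 hch
  have h1 := H261.pow_dvd_F4 F hr3 z h.oz
  rw [Nat.card_eq_fintype_card, hF] at h1
  obtain ⟨rfl, h5⟩ := arith hr.out hr3 hf (by norm_num) h1 h.c23
  have h6 := h.nine
  rw [S1062.result hF] at h6
  have h7 : f = 1 := by omega
  subst h7
  norm_num at h6

theorem e6 {z : chevE6.group F} {k : ℕ} (h : Sm z k) : CharP F 3 := by
  obtain ⟨r, f, hr, hch, hf, hF⟩ := char_or F
  by_contra h3
  have hr3 : r ≠ 3 := by rintro rfl; exact h3 hch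
  have h1 := H261.pow_dvd_E6 F hr3 z h.oz
  rw [Nat.card_eq_fintype_card, hF] at h1
  obtain ⟨rfl, h5⟩ := arith hr.out hr3 hf (by norm_num) h1 h.c23
  have h7 : f = 1 := by omega
  subst h7
  have h8 := S1063.result hF
  have h6 := h.nine
  norm_num at h8
  rw [h8] at h6
  norm_num at h6

theorem e7 {z : chevE7.group F} {k : ℕ} (h : Sm z k) : CharP F 3 := by
  obtain ⟨r, f, hr, hch, hf, hF⟩ := char_or F
  by_contra h3
  have hr3 : r ≠ 3 := by rintro rfl; exact h3 hch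
  have h1 := H261.pow_dvd_E7 F hr3 z h.oz
  rw [Nat.card_eq_fintype_card, hF] at h1
  obtain ⟨rfl, h5⟩ := arith hr.out hr3 hf (by norm_num) h1 h.c23
  omega

theorem e8 {z : chevE8.group F} {k : ℕ} (h : Sm z k) : CharP F 3 := by
  obtain ⟨r, f, hr, hch, hf, hF⟩ := char_or F
  by_contra h3
  have hr3 : r ≠ 3 := by rintro rfl; exact h3 hch
  have h1 := H261.pow_dvd_E8 F hr3 z h.oz
  rw [Nat.card_eq_fintype_card, hF] at h1
  obtain ⟨rfl, h5⟩ := arith hr.out hr3 hf (by norm_num) h1 h.c23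
  omega

/-- `q` is a power of the characteristic. -/
theorem exists_pow {K : Type} [Field K] [Fintype K] {q n : ℕ} (hn : n ≠ 0) (hq : IsPrimePow q)
    (hK : Fintype.card K = q ^ n) : ∃ (r f : ℕ) (_ : Fact r.Prime) (_ : CharP K r), f ≠ 0 ∧ q = r ^ f := by
  obtain ⟨r, g, hr, hch, hg, hF⟩ := char_or K
  obtain ⟨p, f, hp, hf, rfl⟩ := (isPrimePow_nat_iff _).1 hq
  have h1 : p ∣ r ^ g := by
    rw [← hF, hK]
    exact (dvd_pow_self p hf.ne').trans (dvd_pow_self _ hn)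
  have h2 : p = r := (Nat.prime_dvd_prime_iff_eq hp hr.out).1 (hp.dvd_of_dvd_pow h1)
  subst h2
  exact ⟨p, f, hr, hch, hf.ne', rfl⟩

theorem tw6 {K : Type} [Field K] [Fintype K] {q : ℕ} (hq : IsPrimePow q) (hK : Fintype.card K = q ^ 2)
    {z : twistedE6 K q} {k : ℕ} (h : Sm z k) : CharP K 3 ∨ q = 2 := by
  obtain ⟨r, f, hr, hch, hf, hqf⟩ := exists_pow (by norm_num) hq hK
  by_cases h3 : r = 3
  · subst h3; exact Or.inl hch
  right
  have h1 := H261.Tw.pow_dvd_twE6 K h3 (Nat.pos_of_ne_zero hf) hqf hK z h.oz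
  obtain ⟨h4, h5⟩ := arith (N := 9) hr.out h3 hf (by norm_num) (by rw [← hqf]; exact h1) h.c23
  have h7 : f = 1 := by omega
  rw [hqf, h4, h7, pow_one]

theorem tw4 {K : Type} [Field K] [Fintype K] {q : ℕ} (hq : IsPrimePow q) (hK : Fintype.card K = q ^ 3)
    {z : twistedD4 K q} {k : ℕ} (h : Sm z k) : CharP K 3 := by
  obtain ⟨r, f, hr, hch, hf, hqf⟩ := exists_pow (by norm_num) hq hK
  by_contra h3
  have hr3 : r ≠ 3 := by rintro rfl; exact h3 hch
  have h1 := H261.Tw.pow_dvd_twD4 K hr3 (Nat.pos_of_ne_zero hf) hqf hK z h.oz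
  have h1' : (r ^ f) ^ 3 ∣ Nat.card ↥(Subgroup.centralizer ({z} : Set (twistedD4 K q))) := by
    rw [← hqf]; exact h1
  obtain ⟨h4, h5⟩ := arith hr.out hr3 hf (by norm_num) h1' h.c23
  have h6 := h.nine
  rw [S1067.result hq hK, hqf, h4] at h6
  have h7 : f ≤ 3 := by omega
  have h8 : 1 ≤ f := Nat.pos_of_ne_zero hf
  clear h1 h1' h5 hqf hf h h3
  interval_cases f
  all_goals norm_num at h6

theorem sz {m : ℕ} (hm : 1 ≤ m) (hF : Fintype.card F = 2 ^ (2 * m + 1)) {z : Cfsg.Lie.Sz F (2 ^ (m + 1))} {k : ℕ}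
    (h : Sm z k) : False := by
  have h6 := h.nine
  rw [(S1163.result hm hF).1] at h6
  have h7 : 3 ∣ (2 ^ (2 * m + 1)) ^ 2 * (2 ^ (2 * m + 1) - 1) * ((2 ^ (2 * m + 1)) ^ 2 + 1) :=
    (dvd_pow_self 3 (by norm_num)).trans h6
  have hq : 2 ^ (2 * m + 1) % 3 = 2 := by
    have e : 2 ^ (2 * m + 1) = 4 ^ m * 2 := by rw [pow_succ, pow_mul]; norm_num
    rw [e, Nat.mul_mod, Nat.pow_mod]
    norm_num
  generalize 2 ^ (2 * m + 1) = q at h7 hq
  have h8 : q ^ 2 % 3 = 1 := by rw [Nat.pow_mod, hq]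
  have hp := Nat.prime_three
  rw [hp.dvd_mul, hp.dvd_mul] at h7
  omega

theorem tf4 {m : ℕ} (hm : 1 ≤ m) (hF : Fintype.card F = 2 ^ (2 * m + 1)) {z : twistedF4 F (2 ^ m)} {k : ℕ}
    (h : Sm z k) : False := by
  obtain ⟨B, hB, hBc, hBS⟩ := H128.TwF4Ab.hasAb hm hF (S1068.result hF)
  have h1 := h.ab B hB hBc
  obtain ⟨S⟩ : Nonempty (Sylow 3 ↥(twistedF4 F (2 ^ m))) := inferInstance
  have h2 : 3 ^ k ∣ Nat.card S := S.pow_dvd_card_of_pow_dvd_card h.dvd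
  have h3 := h2.trans (hBS S)
  have hB0 : 0 < Nat.card B := Nat.card_pos
  have h4 := Nat.le_of_dvd (Nat.mul_pos hB0 (Nat.factorial_pos 3)) h3
  simp only [Nat.factorial] at h4
  omega

end

theorem tits {T : Type*} [Group T] (hc : Nat.card T = 2 ^ 11 * 3 ^ 3 * 5 ^ 2 * 13) {z : T} {k : ℕ} (h : Sm z k) :
    False := by
  have h6 := h.nine
  rw [hc] at h6
  norm_num at h6

/-- **The exceptional groups in characteristic prime to three.** -/
theorem t3Exc {E : Type*} [Group E] (hE : IsExceptionalLieType E) {z : E} {k d m : ℕ} (c : Cand z k d m) :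
    (∃ (K : Type) (_ : Field K) (_ : Fintype K), Fintype.card K = 4 ∧ Nonempty (E ≃* twistedE6 K 2)) ∨ Exc3 E := by
  have h := Sm.of c
  rcases hE with h1 | h1 | h1 | h1 | h1 | h1 | h1 | h1 | h1 | h1 | h1
  · obtain ⟨F, i1, i2, _, ⟨e⟩⟩ := h1
    exact Or.inr (Or.inl ⟨F, i1, i2, g2 (h.congr e), ⟨e⟩⟩)
  · obtain ⟨F, i1, i2, ⟨e⟩⟩ := h1
    exact Or.inr (Or.inr (Or.inl ⟨F, i1, i2, f4 (h.congr e), ⟨e⟩⟩))
  · obtain ⟨F, i1, i2, ⟨e⟩⟩ := h1
    exact Or.inr (Or.inr (Or.inr (Or.inl ⟨F, i1, i2, e6 (h.congr e), ⟨e⟩⟩)))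
  · obtain ⟨F, i1, i2, ⟨e⟩⟩ := h1
    exact Or.inr (Or.inr (Or.inr (Or.inr (Or.inl ⟨F, i1, i2, e7 (h.congr e), ⟨e⟩⟩))))
  · obtain ⟨F, i1, i2, ⟨e⟩⟩ := h1
    exact Or.inr (Or.inr (Or.inr (Or.inr (Or.inr (Or.inl ⟨F, i1, i2, e8 (h.congr e), ⟨e⟩⟩)))))
  · obtain ⟨K, i1, i2, q, hq, hK, ⟨e⟩⟩ := h1
    rcases tw6 hq hK (h.congr e) with h2 | h2
    · exact Or.inr (Or.inr (Or.inr (Or.inr (Or.inr (Or.inr (Or.inl ⟨K, i1, i2, q, h2, hq, hK, ⟨e⟩⟩))))))
    · subst h2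
      exact Or.inl ⟨K, i1, i2, hK, ⟨e⟩⟩
  · obtain ⟨K, i1, i2, q, hq, hK, ⟨e⟩⟩ := h1
    exact Or.inr (Or.inr (Or.inr (Or.inr (Or.inr (Or.inr (Or.inr (Or.inl ⟨K, i1, i2, q, tw4 hq hK (h.congr e), hq, hK,
      ⟨e⟩⟩)))))))
  · obtain ⟨F, _, _, m, hm, hF, ⟨e⟩⟩ := h1
    exact (sz hm hF (h.congr e)).elim
  · exact Or.inr (Or.inr (Or.inr (Or.inr (Or.inr (Or.inr (Or.inr (Or.inr h1)))))))
  · obtain ⟨F, _, _, m, hm, hF, ⟨e⟩⟩ := h1
    exact (tf4 hm hF (h.congr e)).elim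
  · obtain ⟨e⟩ := h1
    exact (tits ((Nat.card_congr e.toEquiv).trans S1074.result.2.2.2) h).elim

/-- **Centralizers of elements of order three in `²E₆(2)`.** -/
theorem nine {K : Type} [Field K] [Fintype K] (hK : Fintype.card K = 4) {E : Type*} [Group E] (e : E ≃* twistedE6 K 2)
    {z : E} (hz : z ^ 3 = 1) : 2 ^ 9 ∣ Nat.card (Subgroup.centralizer ({z} : Set E)) := by
  obtain ⟨r, f, hr, hch, hf, hqf⟩ := exists_pow (K := K) (q := 2) (n := 2) (by norm_num)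
    (Nat.prime_two.isPrimePow) hK
  have hr2 : r = 2 := by
    have h1 : r ∣ 2 := by rw [hqf]; exact dvd_pow_self r hf
    exact (Nat.prime_dvd_prime_iff_eq hr.out Nat.prime_two).1 h1
  subst hr2
  rw [Nat.card_congr (centE e z)]
  refine H261.Tw.pow_dvd_twE6 K (by norm_num) (n := 1) one_pos (by norm_num) hK (e z) ?_
  rw [← map_pow, hz, map_one]

end Cfsg.Agent.H449.T3Exc
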