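import Mathlib

/-!
# Fixed points of automorphisms on quotients, and generators of abelian `p`-groups
-/

set_option autoImplicit false

namespace Cfsg.Agent.H449

/-- For an endomorphism `α` of a finite group `H` and a subset `K`, at most `|K| |C_H(α)|`
elements `h` satisfy `h⁻¹ α(h) ∈ K`. -/
theorem card_twisted_le {H : Type*} [Group H] [Finite H] (α : H →* H) (K : Set H) :
    Nat.card {h : H // h⁻¹ * α h ∈ K} ≤ Nat.card K * Nat.card {h : H // α h = h} := by
  classical
  rw [← Nat.card_prod]
  -- choose a preimage for each element of `K` in the image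
  let φ : H → H := fun h => h⁻¹ * α h
  let s : K → H := fun k => if hk : ∃ h, φ h = k then hk.choose else 1
  have hs : ∀ (k : K) (h : H), φ h = k → φ (s k) = k := by
    intro k h hh
    have hk : ∃ h, φ h = k := ⟨h, hh⟩
    simp only [s, dif_pos hk]
    exact hk.choose_spec
  have key : ∀ h h' : H, φ h = φ h' → α (h * h'⁻¹) = h * h'⁻¹ := by
    intro h h' e
    simp only [φ] at e
    rw [map_mul, map_inv]
    have h1 : α h = h * (h'⁻¹ * α h') := by rw [← e]; group
    rw [h1]; group
  let F : {h : H // h⁻¹ * α h ∈ K} → K × {h : H // α h = h} := fun h =>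
    (⟨φ h.1, h.2⟩, ⟨h.1 * (s ⟨φ h.1, h.2⟩)⁻¹, by
      apply key
      exact (hs ⟨φ h.1, h.2⟩ h.1 rfl).symm⟩)
  refine Nat.card_le_card_of_injective F ?_
  rintro ⟨a, ha⟩ ⟨b, hb⟩ hab
  simp only [F, Prod.mk.injEq, Subtype.mk.injEq] at hab
  obtain ⟨h1, h2⟩ := hab
  apply Subtype.ext
  have h3 : s ⟨φ a, ha⟩ = s ⟨φ b, hb⟩ := by
    congr 1
    exact Subtype.ext h1
  rw [h3] at h2
  exact mul_right_cancel h2

/-- **Fixed points on quotients.** For a finite group `H` with an endomorphism `α` inducing `β`
on a quotient `Q` of `H`, `|C_Q(β)| ≤ |C_H(α)|`. -/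
theorem card_fixed_le_of_surjective {H Q : Type*} [Group H] [Finite H] [Group Q] (π : H →* Q)
    (hπ : Function.Surjective π) (α : H →* H) (β : Q → Q) (hβ : ∀ h, β (π h) = π (α h)) :
    Nat.card {q : Q // β q = q} ≤ Nat.card {h : H // α h = h} := by
  have : Finite Q := Finite.of_surjective π hπ
  have h1 := card_twisted_le α (π.ker : Set H)
  have h2 : Nat.card (π.ker) * Nat.card {q : Q // β q = q} ≤
      Nat.card {h : H // h⁻¹ * α h ∈ (π.ker : Set H)} := by
    rw [← Nat.card_prod]
    let s : Q → H := fun q => (hπ q).choose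
    have hs : ∀ q, π (s q) = q := fun q => (hπ q).choose_spec
    let F : π.ker × {q : Q // β q = q} → {h : H // h⁻¹ * α h ∈ (π.ker : Set H)} := fun x =>
      ⟨s x.2.1 * x.1.1, by
        have hx : π x.1.1 = 1 := x.1.2
        have hy : β x.2.1 = x.2.1 := x.2.2
        rw [SetLike.mem_coe, MonoidHom.mem_ker, map_mul, map_inv, ← hβ, map_mul, hx, mul_one, hs,
          hy, inv_mul_cancel]⟩
    refine Nat.card_le_card_of_injective F ?_
    rintro ⟨⟨k, hk⟩, ⟨q, hq⟩⟩ ⟨⟨k', hk'⟩, ⟨q', hq'⟩⟩ hab
    simp only [F, Subtype.mk.injEq] at hab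
    have e1 : q = q' := by
      have := congrArg π hab
      rw [map_mul, map_mul, hs, hs, MonoidHom.mem_ker.mp hk, MonoidHom.mem_ker.mp hk', mul_one,
        mul_one] at this
      exact this
    subst e1
    have e2 := mul_left_cancel hab
    subst e2
    rfl
  have h3 := h2.trans h1
  exact Nat.le_of_mul_le_mul_left h3 Nat.card_pos

/-- A finite `p`-group of order at most `p ^ d` is generated by at most `d` elements. -/
theorem exists_finset_closure_eq_top {Q : Type*} [Group Q] [Finite Q] {p : ℕ} [Fact p.Prime]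
    (hQ : IsPGroup p Q) (d : ℕ) (hd : Nat.card Q ≤ p ^ d) :
    ∃ S : Finset Q, S.card ≤ d ∧ Subgroup.closure (S : Set Q) = ⊤ := by
  classical
  have hp : p.Prime := Fact.out
  have key : ∀ k : ℕ, ∃ S : Finset Q, S.card ≤ k ∧
      (Subgroup.closure (S : Set Q) = ⊤ ∨ p ^ k ≤ Nat.card (Subgroup.closure (S : Set Q))) := by
    intro k
    induction k with
    | zero => exact ⟨∅, by simp, Or.inr (by simp)⟩
    | succ k ih =>
      obtain ⟨S, hS, h⟩ := ih
      rcases h with h | h
      · exact ⟨S, by omega, Or.inl h⟩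
      · by_cases htop : Subgroup.closure (S : Set Q) = ⊤
        · exact ⟨S, by omega, Or.inl htop⟩
        · obtain ⟨x, hx⟩ : ∃ x, x ∉ Subgroup.closure (S : Set Q) := by
            by_contra hno
            push Not at hno
            exact htop (eq_top_iff.mpr fun x _ => hno x)
          refine ⟨insert x S, (Finset.card_insert_le _ _).trans (by omega), Or.inr ?_⟩
          have hle : Subgroup.closure (S : Set Q) ≤ Subgroup.closure ((insert x S : Finset Q) : Set Q) :=
            Subgroup.closure_mono (by simp)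
          have hxm : x ∈ Subgroup.closure ((insert x S : Finset Q) : Set Q) :=
            Subgroup.subset_closure (by simp)
          set A := Subgroup.closure (S : Set Q)
          set B := Subgroup.closure ((insert x S : Finset Q) : Set Q)
          have h2 : Nat.card A * A.relIndex B = Nat.card B := by
            have := Subgroup.relIndex_mul_relIndex ⊥ A B bot_le hle
            rwa [Subgroup.relIndex_bot_left, Subgroup.relIndex_bot_left] at this
          have h3 : p ≤ A.relIndex B := by
            have h4 : A.relIndex B ≠ 1 := by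
              intro h; exact hx (Subgroup.relIndex_eq_one.mp h hxm)
            obtain ⟨e, he⟩ := (IsPGroup.iff_card).mp (hQ.to_subgroup B)
            have h5 : A.relIndex B ∣ p ^ e := by rw [← he, ← h2]; exact dvd_mul_left _ _
            obtain ⟨f, hf, hf'⟩ := (Nat.dvd_prime_pow hp).mp h5
            rw [hf'] at h4 ⊢
            have : f ≠ 0 := by rintro rfl; exact h4 (pow_zero p)
            exact Nat.le_self_pow this p
          rw [← h2, pow_succ]
          exact Nat.mul_le_mul h h3
  obtain ⟨S, hS, h⟩ := key d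
  refine ⟨S, hS, ?_⟩
  rcases h with h | h
  · exact h
  · exact Subgroup.eq_top_of_le_card _ (hd.trans h)

/-- `|ker f ^ k| ≤ |ker f| ^ k` for an endomorphism of a finite abelian group. -/
theorem card_ker_pow_le {A : Type*} [AddCommGroup A] [Finite A] (f : AddMonoid.End A) (k : ℕ) :
    Nat.card {x : A // (f ^ k) x = 0} ≤ Nat.card {x : A // f x = 0} ^ k := by
  classical
  induction k with
  | zero =>
    rw [pow_zero, pow_zero]
    have : Subsingleton {x : A // (1 : AddMonoid.End A) x = 0} :=
      ⟨fun a b => Subtype.ext ((show (a : A) = 0 from a.2).trans (show (b : A) = 0 from b.2).symm)⟩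
    exact Finite.card_le_one_iff_subsingleton.mpr this
  | succ k ih =>
    rw [pow_succ (Nat.card _)]
    refine le_trans ?_ (Nat.mul_le_mul_right _ ih)
    rw [← Nat.card_prod]
    let s : {x : A // f x = 0} → A := fun y => if hy : ∃ x, (f ^ k) x = y then hy.choose else 0
    have hs : ∀ (y : {x : A // f x = 0}) (x : A), (f ^ k) x = y → (f ^ k) (s y) = y := by
      intro y x hx
      have hy : ∃ x, (f ^ k) x = y := ⟨x, hx⟩
      simp only [s, dif_pos hy]
      exact hy.choose_spec
    have hmem : ∀ x : A, (f ^ (k + 1)) x = 0 → f ((f ^ k) x) = 0 := by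
      intro x hx
      rw [pow_succ'] at hx
      exact hx
    let F : {x : A // (f ^ (k + 1)) x = 0} → {x : A // (f ^ k) x = 0} × {x : A // f x = 0} :=
      fun x => (⟨x.1 - s ⟨(f ^ k) x.1, hmem _ x.2⟩, by
        rw [map_sub, hs ⟨(f ^ k) x.1, hmem _ x.2⟩ x.1 rfl, sub_self]⟩,
        ⟨(f ^ k) x.1, hmem _ x.2⟩)
    refine Nat.card_le_card_of_injective F ?_
    rintro ⟨a, ha⟩ ⟨b, hb⟩ hab
    simp only [F, Prod.mk.injEq, Subtype.mk.injEq] at hab
    obtain ⟨h1, h2⟩ := hab
    apply Subtype.ext
    have h3 : s ⟨(f ^ k) a, hmem a ha⟩ = s ⟨(f ^ k) b, hmem b hb⟩ := by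
      congr 1
      exact Subtype.ext h2
    rw [h3] at h1
    exact sub_left_injective h1

/-- An endomorphism `α` with `α ^ p = 1` of a finite abelian group `V` of exponent `p`:
`|V| ≤ |C_V(α)| ^ p`. -/
theorem card_le_card_fixed_pow {A : Type*} [AddCommGroup A] [Finite A] {p : ℕ} [Fact p.Prime]
    (hV : ∀ v : A, p • v = 0) (α : AddMonoid.End A) (hα : α ^ p = 1) :
    Nat.card A ≤ Nat.card {v : A // α v = v} ^ p := by
  have hp : p.Prime := Fact.out
  set δ : AddMonoid.End A := α - 1 with hδ
  have h0 : (p : AddMonoid.End A) = 0 := by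
    ext v
    have : ((p : AddMonoid.End A)) v = p • v := by
      rw [AddMonoid.End.natCast_apply]
    rw [this, hV]; rfl
  have h1 : δ ^ p = 0 := by
    obtain ⟨r, hr⟩ := (Commute.one_right δ).exists_add_pow_prime_eq hp
    simp only [h0, zero_mul, add_zero, one_pow] at hr
    rw [hδ, sub_add_cancel, hα] at hr
    exact right_eq_add.mp hr
  have h2 := card_ker_pow_le δ p
  have h3 : Nat.card {x : A // (δ ^ p) x = 0} = Nat.card A := by
    apply Nat.card_congr
    rw [h1]
    exact Equiv.subtypeUnivEquiv (fun x => rfl)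
  have h4 : Nat.card {x : A // δ x = 0} = Nat.card {v : A // α v = v} := by
    apply Nat.card_congr
    apply Equiv.subtypeEquivRight
    intro x
    have : δ x = α x - x := rfl
    rw [this, sub_eq_zero]
  rwa [h3, h4] at h2

end Cfsg.Agent.H449
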