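import Mathlib
import Cfsg.Agent.H449.GroupCore
import Cfsg.Agent.H449.FixQuot
import Cfsg.Agent.S3781

/-!
# Alperin's theorem for `p`-groups

A finite `p`-group with an automorphism of order dividing `p` with at most `p ^ n` fixed points has
derived length bounded in terms of `p` and `n`.
-/

set_option autoImplicit false

namespace Cfsg.Agent.H449

universe u

/-- The Higman–Kreknin–Kostrikin bound. -/
def hk (p : ℕ) : ℕ := Finset.sum (Finset.range (2 ^ (p - 1) - 1)) (fun i => (p - 1) ^ i)

theorem hk_pos {p : ℕ} (hp : p.Prime) : 0 < hk p := by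
  have h1 : 0 < 2 ^ (p - 1) - 1 := by
    have h2 := hp.two_le
    have h3 : 2 ^ 1 ≤ 2 ^ (p - 1) := Nat.pow_le_pow_right (by norm_num) (by omega)
    omega
  obtain ⟨m, hm⟩ : ∃ m, 2 ^ (p - 1) - 1 = m + 1 := ⟨2 ^ (p - 1) - 1 - 1, by omega⟩
  rw [hk, hm, Finset.sum_range_succ']
  simp

/-- On quotients of a `p`-group the fixed points of `α` are killed by `p ^ n`. -/
theorem pow_mem_of_twisted {P : Type*} [Group P] [Finite P] {p : ℕ} [Fact p.Prime]
    (hP : IsPGroup p P) (α : P →* P) (n : ℕ) (hn : Nat.card {x : P // α x = x} ≤ p ^ n)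
    (K : Subgroup P) [K.Normal] (hK : ∀ x ∈ K, α x ∈ K) (x : P) (hx : x⁻¹ * α x ∈ K) :
    x ^ p ^ n ∈ K := by
  have hp : p.Prime := Fact.out
  let β : P ⧸ K →* P ⧸ K := QuotientGroup.map K K α hK
  have h1 : Nat.card {q : P ⧸ K // β q = q} ≤ p ^ n :=
    (card_fixed_le_of_surjective (QuotientGroup.mk' K) (QuotientGroup.mk'_surjective K) α β
      (fun _ => rfl)).trans hn
  let F : Subgroup (P ⧸ K) := β.eqLocus (MonoidHom.id _)
  have h2 : Nat.card F ≤ p ^ n := h1
  obtain ⟨m, hm⟩ := (IsPGroup.iff_card).mp ((hP.to_quotient K).to_subgroup F)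
  rw [hm] at h2
  have h3 : m ≤ n := (Nat.pow_le_pow_iff_right hp.one_lt).mp h2
  have h4 : (x : P ⧸ K) ∈ F := by
    change β (x : P ⧸ K) = (x : P ⧸ K)
    exact (QuotientGroup.eq.mpr hx).symm
  have h5 : (⟨(x : P ⧸ K), h4⟩ : F) ^ p ^ n = 1 := by
    have h6 : (⟨(x : P ⧸ K), h4⟩ : F) ^ Nat.card F = 1 := pow_card_eq_one'
    rw [hm] at h6
    obtain ⟨k, rfl⟩ := Nat.exists_eq_add_of_le h3
    rw [pow_add, pow_mul, h6, one_pow]
  have h6 := congrArg Subtype.val h5
  simp only [SubmonoidClass.mk_pow, OneMemClass.coe_one] at h6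
  rw [← QuotientGroup.mk_pow, QuotientGroup.eq_one_iff] at h6
  exact h6

theorem iterate_mem_fix {P : Type*} [Group P] (α : P →* P) (H : Subgroup P)
    (hH : ∀ x ∈ H, α x ∈ H) (p : ℕ) (hα : ∀ x, (⇑α)^[p] x = x) (x : H) :
    (⇑((α.comp H.subtype).codRestrict H fun x => hH x.1 x.2))^[p] x = x := by
  have h1 : ∀ m : ℕ, ∀ x : H,
      (((⇑((α.comp H.subtype).codRestrict H fun x => hH x.1 x.2))^[m] x : H) : P) =
        (⇑α)^[m] x := by
    intro m
    induction m with
    | zero => intro x; rfl
    | succ m ih => intro x; rw [Function.iterate_succ_apply, ih, Function.iterate_succ_apply]; rfl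
  exact Subtype.ext ((h1 p x).trans (hα _))

theorem card_fix_restrict {P : Type*} [Group P] [Finite P] (α : P →* P) (H : Subgroup P)
    (hH : ∀ x ∈ H, α x ∈ H) :
    Nat.card {x : H // (α.comp H.subtype).codRestrict H (fun x => hH x.1 x.2) x = x} ≤
      Nat.card {x : P // α x = x} := by
  refine Nat.card_le_card_of_injective
    (fun x => (⟨(x.1 : P), congrArg Subtype.val x.2⟩ : {x : P // α x = x})) ?_
  intro a b hab
  have h1 : ((a.1 : H) : P) = ((b.1 : H) : P) := (Subtype.mk.injEq _ _ _ _).mp hab
  exact Subtype.ext (Subtype.ext h1)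

theorem map_lcs_mem {P : Type*} [Group P] (α : P →* P) (k : ℕ) :
    ∀ x ∈ (⊤ : Subgroup P).lowerCentralSeries k, α x ∈ (⊤ : Subgroup P).lowerCentralSeries k := by
  intro x hx
  have h1 : α x ∈ ((⊤ : Subgroup P).lowerCentralSeries k).map α := ⟨x, hx, rfl⟩
  rw [Subgroup.map_lowerCentralSeries] at h1
  exact Subgroup.lowerCentralSeries_mono _ le_top h1

/-- The order of the `(h + 1)`-st lower central factor is bounded. -/
theorem relIndex_lcs_le {P : Type u} [Group P] [Finite P] {p : ℕ} [Fact p.Prime]
    (hP : IsPGroup p P) (α : P →* P) (hα : ∀ x, (⇑α)^[p] x = x) (n : ℕ)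
    (hn : Nat.card {x : P // α x = x} ≤ p ^ n) :
    ((⊤ : Subgroup P).lowerCentralSeries (hk p + 1)).relIndex
      ((⊤ : Subgroup P).lowerCentralSeries (hk p)) ≤ p ^ (n * p * (n + (hk p + 1))) := by
  have hp : p.Prime := Fact.out
  set h := hk p with hh
  set S := lcsSeries P with hS
  have key := group_core (G := P) (p := p) h (fun V _ F hF h0 => flcs_eq_bot F hF h0) α hα (p ^ n)
    (fun k x _ hx' => pow_mem_of_twisted hP α n hn _ (map_lcs_mem α (k + 1)) x hx')
  rw [← pow_add] at key
  set c := n + (h + 1) with hc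
  have hαS : ∀ k, ∀ x ∈ S.H k, α x ∈ S.H k := fun k x hx => map_lcs_mem α (k - 1) x hx
  -- the additive group `W`
  let W := S.W (h + 1)
  have hfin : Finite W := by
    have : Finite (S.Q (h + 1)) :=
      inferInstanceAs (Finite (↥(S.H (h + 1)) ⧸ (S.H (h + 1 + 1)).subgroupOf (S.H (h + 1))))
    exact inferInstanceAs (Finite (Additive (S.Q (h + 1))))
  let a : AddMonoid.End W :=
    { toFun := S.mapW α (h + 1)
      map_zero' := by
        have h1 := S.mapW_add hαS (h + 1) 0 0
        rw [add_zero] at h1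
        exact left_eq_add.mp h1
      map_add' := S.mapW_add hαS (h + 1) }
  -- fixed points of `a`
  have hfix : Nat.card {w : W // a w = w} ≤ p ^ n := by
    let H := S.H (h + 1)
    let α' : H →* H := (α.comp H.subtype).codRestrict H (fun x => hαS _ x.1 x.2)
    let π : H →* S.Q (h + 1) :=
      show H →* S.Q (h + 1) from QuotientGroup.mk' ((S.H (h + 1 + 1)).subgroupOf (S.H (h + 1)))
    have hπ : Function.Surjective π := QuotientGroup.mk'_surjective _
    have hcls : ∀ x : H, Additive.ofMul (π x) = S.cls (h + 1) (x : P) := fun x =>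
      (S.cls_of_mem x.2).symm
    have h1 := card_fixed_le_of_surjective π hπ α'
      (fun q => Additive.toMul (a (Additive.ofMul q))) (fun x => by
        apply Additive.ofMul.injective
        rw [hcls, ofMul_toMul, hcls]
        exact S.mapW_cls hαS x.2)
    have h2 : Nat.card {w : W // a w = w} =
        Nat.card {q : S.Q (h + 1) // Additive.toMul (a (Additive.ofMul q)) = q} := rfl
    rw [h2]
    exact (h1.trans (card_fix_restrict α H (fun x hx => hαS _ x hx))).trans hn
  -- exponent
  have hexp : ∀ w : W, p ^ c • w = 0 := by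
    intro w
    rw [← S.cls_rep w, ← S.cls_pow (S.rep_mem w)]
    exact S.cls_eq_zero (key _ (S.rep_mem w))
  -- the iterates of `a`
  have hap : ∀ w : W, (⇑a)^[p] w = w := by
    intro w
    have h1 := S.mapW_iterate hαS (h + 1) p (S.rep_mem w)
    rw [S.cls_rep w, hα, S.cls_rep w] at h1
    exact h1
  -- elements of order `p`
  let V : AddSubgroup W :=
    { carrier := {w | p • w = 0}
      add_mem' := by
        intro x y hx hy
        have hx' : p • x = 0 := hx
        have hy' : p • y = 0 := hy
        change p • (x + y) = 0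
        rw [smul_add, hx', hy', add_zero]
      zero_mem' := smul_zero p
      neg_mem' := by
        intro x hx
        have hx' : p • x = 0 := hx
        change p • (-x) = 0
        rw [smul_neg, hx', neg_zero] }
  have hVa : ∀ v : V, a (v : W) ∈ V := by
    intro v
    have hv : p • (v : W) = 0 := v.2
    change p • (a (v : W)) = 0
    rw [← map_nsmul, hv, map_zero]
  let b : AddMonoid.End V :=
    { toFun := fun v => ⟨a (v : W), hVa v⟩
      map_zero' := Subtype.ext (map_zero a)
      map_add' := fun x y => Subtype.ext (map_add a (x : W) (y : W)) }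
  have hbp : b ^ p = 1 := by
    have h1 : ∀ m : ℕ, ∀ v : V, (((b ^ m) v : V) : W) = (⇑a)^[m] (v : W) := by
      intro m
      induction m with
      | zero => intro v; rfl
      | succ m ih =>
        intro v
        rw [pow_succ, Function.iterate_succ_apply]
        exact ih (b v)
    ext v
    exact (h1 p v).trans (hap v)
  have hVcard : Nat.card V ≤ (p ^ n) ^ p := by
    refine (card_le_card_fixed_pow (fun v => Subtype.ext v.2) b hbp).trans ?_
    refine Nat.pow_le_pow_left (le_trans ?_ hfix) p
    refine Nat.card_le_card_of_injective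
      (fun v => (⟨(v.1 : W), congrArg Subtype.val v.2⟩ : {w : W // a w = w})) ?_
    intro x y hxy
    have h1 : ((x.1 : V) : W) = ((y.1 : V) : W) := (Subtype.mk.injEq _ _ _ _).mp hxy
    exact Subtype.ext (Subtype.ext h1)
  -- multiplication by `p`
  let f : AddMonoid.End W := (p : AddMonoid.End W)
  have hf : ∀ w : W, f w = p • w := fun w => AddMonoid.End.natCast_apply p w
  have hWcard : Nat.card W ≤ ((p ^ n) ^ p) ^ c := by
    have h1 := card_ker_pow_le f c
    have h2 : Nat.card {x : W // (f ^ c) x = 0} = Nat.card W := by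
      apply Nat.card_congr
      apply Equiv.subtypeUnivEquiv
      intro w
      have h3 : f ^ c = ((p ^ c : ℕ) : AddMonoid.End W) := by
        rw [Nat.cast_pow]
      rw [h3, AddMonoid.End.natCast_apply]
      exact hexp w
    have h3 : Nat.card {x : W // f x = 0} = Nat.card V := by
      apply Nat.card_congr
      apply Equiv.subtypeEquivRight
      intro w
      rw [hf]
      exact Iff.rfl
    rw [h2, h3] at h1
    exact h1.trans (Nat.pow_le_pow_left hVcard c)
  have hidx : ((⊤ : Subgroup P).lowerCentralSeries (h + 1)).relIndex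
      ((⊤ : Subgroup P).lowerCentralSeries h) = Nat.card W := rfl
  rw [hidx]
  refine hWcard.trans (le_of_eq ?_)
  rw [← pow_mul, ← pow_mul, mul_assoc]

/-- **Alperin's theorem** for `p`-groups. -/
theorem derivedSeries_eq_bot_of_pgroup {P : Type u} [Group P] [Finite P] {p : ℕ} [Fact p.Prime]
    (hP : IsPGroup p P) (α : P →* P) (hα : ∀ x, (⇑α)^[p] x = x) (n : ℕ)
    (hn : Nat.card {x : P // α x = x} ≤ p ^ n) :
    derivedSeries P (n * p * (n + (hk p + 1)) + (hk p + 1)) = ⊥ := by
  have hp : p.Prime := Fact.out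
  set e := n * p * (n + (hk p + 1)) with he
  set N := derivedSeries P e with hN
  have hNα : ∀ x ∈ N, α x ∈ N := by
    intro x hx
    exact map_derivedSeries_le_derivedSeries α e ⟨x, hx, rfl⟩
  let α' : N →* N := (α.comp N.subtype).codRestrict N (fun x => hNα x.1 x.2)
  have h1 := relIndex_lcs_le (hP.to_subgroup N) α' (iterate_mem_fix α N hNα p hα) n
    ((card_fix_restrict α N hNα).trans hn)
  rw [← Subgroup.relIndex_map_map_of_injective _ _ N.subtype_injective,
    Subgroup.top_subtype_lowerCentralSeries, Subgroup.top_subtype_lowerCentralSeries, ← he] at h1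
  have hNn : N.Normal := inferInstance
  have h2 : N ≤ (⊤ : Subgroup P).lowerCentralSeries (2 ^ e - 1) := derivedSeries_le_lcs e
  have hlt : e < 2 ^ e := Nat.lt_two_pow_self
  have h3 : N.lowerCentralSeries (hk p + 1) = ⊥ := by
    by_contra hne
    have h4 := Cfsg.Agent.S3781.result hP (2 ^ e) (Nat.one_le_two_pow) N h2 (hk p + 1)
      (by have := hk_pos hp; omega) hne
    rw [Nat.add_sub_cancel] at h4
    have h5 := h4.trans h1
    have h6 := (Nat.pow_le_pow_iff_right hp.one_lt).mp h5
    omega
  have h4 : ∀ k : ℕ, derivedSeries P (e + k) ≤ N.lowerCentralSeries k := by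
    intro k
    induction k with
    | zero => exact le_rfl
    | succ k ih =>
      rw [← add_assoc, derivedSeries_succ, Subgroup.lowerCentralSeries_succ]
      refine Subgroup.commutator_mono ih ?_
      exact derivedSeries_antitone _ (Nat.le_add_right e k)
  rw [← le_bot_iff, ← h3]
  exact h4 _

end Cfsg.Agent.H449
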